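import Cfsg.Agent.H508.KB.Defs
import Cfsg.Agent.H735.S4822.Orb
import Cfsg.Agent.H685.Alperin
import Cfsg.Agent.H686.CharKit

/-!
# S4822, C2: the characters of the principal block with `S` in the kernel

`ker_eq`: if `p` does not divide `|A : S|`, the irreducible characters of `A` in the principal block with `S` in the
kernel are the irreducible characters of `A / hull`.
-/

set_option autoImplicit false
set_option linter.unusedSectionVars false

open scoped Pointwise
open Cfsg Subgroup Cfsg.Agent.H508.KB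

namespace Cfsg.Agent.H261.KB.Ker

open Cfsg.Agent.Blocks.Local Cfsg.Agent.Characters.Core

universe u

variable {p : ℕ} [Fact p.Prime] {M : Ideal AlgInt} {A : Type u} [Group A] [Finite A] (S : Subgroup A) [S.Normal]

omit [S.Normal] in
theorem centralizer_le (P : Sylow p A) (hP : (P : Subgroup A) ≤ S) :
    centralizer ((P : Subgroup A) : Set A) ≤ hull p S := by
  have h := le_iSup (fun P : Sylow p ↥S => centralizer (((P : Subgroup ↥S).map S.subtype : Subgroup A) : Set A))
    (P.subtype hP)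
  have h1 : (((P.subtype hP : Sylow p ↥S) : Subgroup ↥S).map S.subtype : Subgroup A) = P := by
    rw [Sylow.coe_subtype, Subgroup.subgroupOf_map_subtype, inf_eq_left.2 hP]
  simp only [h1] at h
  exact h.trans le_sup_right

omit [S.Normal] in
/-- the hull is `S C_A(P)` -/
theorem hull_le (P : Sylow p A) (hP : (P : Subgroup A) ≤ S) :
    hull p S ≤ S ⊔ centralizer ((P : Subgroup A) : Set A) := by
  refine sup_le le_sup_left (iSup_le fun Q => ?_)
  intro c hc
  obtain ⟨s, hs⟩ := MulAction.exists_smul_eq ↥S (P.subtype hP) Q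
  have h1 : (s : A)⁻¹ * c * s ∈ centralizer ((P : Subgroup A) : Set A) := by
    rw [Subgroup.mem_centralizer_iff]
    intro x hx
    have hx' : (s : A) * x * (s : A)⁻¹ ∈ (((Q : Subgroup ↥S).map S.subtype : Subgroup A) : Set A) := by
      refine ⟨s * ⟨x, hP hx⟩ * s⁻¹, ?_, rfl⟩
      rw [← hs]
      show _ ∈ MulAut.conj s • (_ : Subgroup ↥S)
      rw [Subgroup.mem_pointwise_smul_iff_inv_smul_mem]
      show (MulAut.conj s)⁻¹ (s * ⟨x, hP hx⟩ * s⁻¹) ∈ _
      rw [← map_inv, MulAut.conj_apply]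
      have h2 : s⁻¹ * (s * ⟨x, hP hx⟩ * s⁻¹) * s⁻¹⁻¹ = (⟨x, hP hx⟩ : ↥S) := by group
      rw [h2, Sylow.coe_subtype, Subgroup.mem_subgroupOf]
      exact hx
    have h3 := Subgroup.mem_centralizer_iff.1 hc _ hx'
    calc x * ((s : A)⁻¹ * c * s) = (s : A)⁻¹ * ((s * x * (s : A)⁻¹) * c) * s := by group
      _ = (s : A)⁻¹ * (c * (s * x * (s : A)⁻¹)) * s := by rw [h3]
      _ = (s : A)⁻¹ * c * s * x := by group
  have h4 : c = s * ((s : A)⁻¹ * c * s) * (s : A)⁻¹ := by group
  rw [h4]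
  exact mul_mem (mul_mem (Subgroup.mem_sup_left s.2) (Subgroup.mem_sup_right h1)) (inv_mem (Subgroup.mem_sup_left s.2))

/-- a character of the principal block with `S` in the kernel has the hull in the kernel -/
theorem eq_one_on_hull (hM : IsPModular p M) (hcop : ¬ p ∣ S.index) [(hull p S).Normal] {χ : IrrCharacter A}
    (hχ : χ ∈ principalBlock M A) (hS : ∀ s ∈ S, (χ : A → ℂ) s = (χ : A → ℂ) 1) :
    ∀ s ∈ hull p S, (χ : A → ℂ) s = (χ : A → ℂ) 1 := by
  classical
  have := isPrime_of_isPModular hM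
  obtain ⟨P⟩ : Nonempty (Sylow p A) := inferInstance
  have hP := H735.S4822.sylow_le S hcop P
  obtain ⟨χ', rfl⟩ := H633.Principal.exists_infl S χ hS
  -- the image of the hull
  let K : Subgroup (A ⧸ S) := (hull p S).map (QuotientGroup.mk' S)
  have hKn : K.Normal := Subgroup.Normal.map inferInstance _ (QuotientGroup.mk'_surjective S)
  have := Fintype.ofFinite K
  have hK : ∀ x ∈ K, MemLocalIdeal M ((χ' : A ⧸ S → ℂ) x / (χ' : A ⧸ S → ℂ) 1 - 1) := by
    rintro _ ⟨k, hk, rfl⟩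
    have hk' := hull_le S P hP hk
    rw [← SetLike.mem_coe, Subgroup.normal_mul] at hk'
    obtain ⟨s, hs, c, hc, rfl⟩ := Set.mem_mul.1 hk'
    have h1 := H685.Alperin.ratio_sub_one_of_centralizer hM P hχ hc
    rw [H633.Principal.infl_apply, H633.Principal.infl_apply] at h1
    have h2 : (QuotientGroup.mk' S) (s * c) = (c : A ⧸ S) := by
      rw [map_mul]
      have : (QuotientGroup.mk' S) s = 1 := (QuotientGroup.eq_one_iff s).2 hs
      rw [this, one_mul]
      rfl
    rw [h2]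
    exact h1
  have hsum : ∑ x : K, (χ' : A ⧸ S → ℂ) x ≠ 0 := by
    intro h0
    have h3 : MemLocalIdeal M (∑ x : K, ((χ' : A ⧸ S → ℂ) x / (χ' : A ⧸ S → ℂ) 1 - 1)) :=
      memLocalIdeal_sum fun x _ => hK x x.2
    rw [Finset.sum_sub_distrib, ← Finset.sum_div, h0, zero_div, zero_sub, memLocalIdeal_neg_iff,
      Finset.sum_const, nsmul_eq_mul, mul_one, Finset.card_univ, ← Nat.card_eq_fintype_card,
      memLocalIdeal_natCast_iff hM] at h3
    apply hcop
    rw [Subgroup.index_eq_card]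
    exact h3.trans (Subgroup.card_subgroup_dvd_card K)
  obtain ⟨ψ, hψ⟩ := Blocks.Deflate.exists_deflation K (χ' : A ⧸ S → ℂ) χ'.2 hsum
  intro k hk
  rw [H633.Principal.infl_apply, H633.Principal.infl_apply, hψ]
  have h5 : ((k : A ⧸ S) : (A ⧸ S) ⧸ K) = 1 := (QuotientGroup.eq_one_iff _).2 ⟨k, hk, rfl⟩
  show (ψ : (A ⧸ S) ⧸ K → ℂ) ((k : A ⧸ S) : (A ⧸ S) ⧸ K) = (ψ : (A ⧸ S) ⧸ K → ℂ) (((1 : A) : A ⧸ S) : (A ⧸ S) ⧸ K)
  rw [h5]
  rfl

/-- **C2** -/
theorem ker_eq (hM : IsPModular p M) (hcop : ¬ p ∣ S.index) [(hull p S).Normal] :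
    ker M S = Nat.card (ConjClasses (A ⧸ hull p S)) := by
  classical
  have := isPrime_of_isPModular hM
  have := Fintype.ofFinite A
  have := Fintype.ofFinite (A ⧸ hull p S)
  obtain ⟨P⟩ : Nonempty (Sylow p A) := inferInstance
  have hP := H735.S4822.sylow_le S hcop P
  have hSK : S ≤ hull p S := le_sup_left
  have hidx : ¬ p ∣ (hull p S).index := fun h => hcop (h.trans (Subgroup.index_dvd_of_le hSK))
  have e : IrrCharacter (A ⧸ hull p S) ≃
      {χ : IrrCharacter A // χ ∈ principalBlock M A ∧ ∀ s ∈ S, (χ : A → ℂ) s = (χ : A → ℂ) 1} := by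
    refine Equiv.ofBijective (fun ψ => ⟨H633.Principal.infl (hull p S) ψ,
      H735.S4822.infl_mem hM P (hull p S) (centralizer_le S P hP) hidx ψ, ?_⟩) ⟨?_, ?_⟩
    · intro s hs
      rw [H633.Principal.infl_apply, H633.Principal.infl_apply, (QuotientGroup.eq_one_iff s).2 (hSK hs)]
      rfl
    · intro ψ ψ' h
      exact H686.CharKit.infl_injective (hull p S) (congrArg Subtype.val h)
    · rintro ⟨χ, hχ, hS⟩
      obtain ⟨ψ, hψ⟩ := H633.Principal.exists_infl (hull p S) χ (eq_one_on_hull S hM hcop hχ hS)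
      exact ⟨ψ, Subtype.ext hψ.symm⟩
  unfold ker
  rw [← Nat.card_congr e, card_irr]

end Cfsg.Agent.H261.KB.Ker
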